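import Cfsg.Agent.FT.A_Rank
import Cfsg.Agent.FT.A_SDP
import Cfsg.Agent.FT.A_Hall
import Cfsg.Agent.FT.A_Mso
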