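import Cfsg.Agent.FT.Api
import Cfsg.Agent.FT.BG2_6
import Cfsg.Agent.FT.X_h3b

set_option autoImplicit false

namespace CfsgFT

open Subgroup CfsgL0
open scoped commutatorElement

variable {G : Type*} [Group G] [Finite G]

theorem exists_char {k U X : Type*} [Field k] [AddCommGroup U] [Module k U] [Group X]
    (ρ : Representation k X U) {u : U} (hu : u ≠ 0) (h : ∀ g, ∃ c : k, ρ g u = c • u) :
    ∃ χ : X →* kˣ, ∀ g, ρ g u = (χ g : k) • u := by
  choose c hc using h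
  let χ : X →* k := ⟨⟨c, smul_left_injective k hu (by simp only [← hc]; simp)⟩, fun x y =>
    smul_left_injective k hu (by
      simp only [← hc]
      rw [map_mul, Module.End.mul_apply, hc y, map_smul, hc x, smul_smul, mul_comm])⟩
  exact ⟨χ.toHomUnits, hc⟩

omit [Finite G] in
theorem SecRep.f_zpow {q : ℕ} {X V₀ V : Subgroup G} (S : SecRep q X V₀ V) {x : G} (hx : x ∈ V)
    (n : ℤ) : S.f (x ^ n) = n • S.f x := by
  cases n with
  | ofNat n => simp [S.f_pow hx]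
  | negSucc n => rw [zpow_negSucc, S.f_inv (pow_mem hx _), S.f_pow hx, negSucc_zsmul]

/-- BG 2.7 -/
theorem bg2_7 {p q : ℕ} [Fact p.Prime] [Fact q.Prime] {P Q : Subgroup G} (hP : EA p 2 P)
    (hQ : EA q 2 Q) (hn : Q ≤ 𝒩 P) (hf : Q ⊓ 𝒞 P = ⊥) :
    q ∣ p - 1 ∧ ∃ a ∈ Q, a ≠ 1 ∧ ∃ r : ℕ, (∀ x ∈ P, a * x * a⁻¹ = x ^ r) ∧ r ^ q ≡ 1 [MOD p] ∧
      ¬ r ≡ 1 [MOD p] := by
  have hp : p.Prime := Fact.out
  have hq : q.Prime := Fact.out
  have hidx : (𝒞 P).relIndex Q = q ^ 2 := by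
    rw [← hQ.card, ← CfsgH2.card_inf_mul_relIndex Q (𝒞 P), hf, card_bot, one_mul]
  by_cases hpq : p = q
  · subst hpq
    have h1 := relIndex_centralizer_le_of_card_sq (hP.isPGroup.to_sup_of_normal_left' hQ.isPGroup hn)
      le_sup_left (sup_le le_normalizer hn) hP.card
    have h2 := relIndex_le_of_le_right (H := 𝒞 P) (le_sup_right : Q ≤ P ⊔ Q)
      index_ne_zero_of_finite
    have := hp.two_le
    nlinarith
  have hc : (#Q).Coprime #P := by
    rw [hP.card, hQ.card]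
    exact Nat.Coprime.pow _ _ ((Nat.coprime_primes hq hp).2 (Ne.symm hpq))
  have key : ∀ K : Subgroup G, ¬ P ≤ K → ∃ u ∈ P, u ∉ K ∧ Q ≤ 𝒩 (zpowers u) := fun K hK => by
    by_contra! e
    refine hK (CfsgH2.le_of_noncyclic hQ.comm (hQ.not_isCyclic le_rfl) hn hc fun a ha h1 u hu => ?_)
    by_contra huK
    refine e u hu.1 huK ?_
    have h2 := hP.card_eq_of_ne (X := P ⊓ 𝒞₁ a) inf_le_left
      (fun e => huK (by rw [e, mem_bot] at hu; rw [hu]; exact one_mem _))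
      fun e => h1 (mem_bot.1 (hf ▸ mem_inf.2 ⟨ha, fun x hx =>
        mem_centralizer_singleton_iff.1 (e.ge hx).2⟩))
    rw [eq_zpowers_of_prime_card (h2 ▸ hp) hu fun e => huK (e ▸ one_mem _)]
    refine CfsgH2.le_normalizer_inf hn ((le_centralizer_singleton_of_comm hQ.comm ha).trans
      le_normalizer)
  obtain ⟨u, hu, hu1, hQu⟩ := key ⊥ fun e => hP.ne_bot (by norm_num) (le_bot_iff.1 e)
  obtain ⟨v, hv, hv1, hQv⟩ := key (zpowers u) fun e =>
    hP.not_isCyclic le_rfl (isCyclic_mono inferInstance e)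
  obtain ⟨S⟩ := exists_secRep bot_le (elemMod_bot hP.1) hn (le_normalizer_bot Q)
  have hinj : ∀ x ∈ P, ∀ y ∈ P, S.f x = S.f y → x = y := fun x hx y hy e =>
    inv_mul_eq_one.1 (mem_bot.1 ((S.f_eq_iff hx hy).1 e))
  have hch : ∀ w ∈ P, w ∉ (⊥ : Subgroup G) → Q ≤ 𝒩 (zpowers w) →
      ∃ χ : Q →* (ZMod p)ˣ, ∀ g, S.ρ g (S.f w) = (χ g : ZMod p) • S.f w := fun w hw hw1 hQw =>
    exists_char S.ρ (fun e => hw1 ((S.ker w hw).1 e)) fun g => by
      obtain ⟨n, hn⟩ := CfsgH2.conj_mem_of_le_normalizer hQw g.2 (mem_zpowers w)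
      exact ⟨n, by rw [← S.conj g w hw, ← hn, S.f_zpow hw, Int.cast_smul_eq_zsmul]⟩
  obtain ⟨χ₁, h1⟩ := hch u hu hu1 hQu
  obtain ⟨χ₂, h2⟩ := hch v hv (fun e => hv1 (bot_le (a := zpowers u) e)) hQv
  obtain ⟨a, ha, ha1⟩ : ∃ a : Q, (χ₁ / χ₂) a = 1 ∧ a ≠ 1 := by
    by_contra! e
    exact hQ.not_isCyclic le_rfl (isCyclic_of_injective _ ((injective_iff_map_eq_one _).2 e))
  rw [MonoidHom.div_apply, div_eq_one] at ha
  obtain ⟨b, hb0, hb1⟩ := exists_basis_two (k := ZMod p) (u := S.f u) (v := S.f v)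
    (by rw [Module.finrank_fin_fun, S.n_eq hP]) (fun e => hu1 ((S.ker u hu).1 e)) fun c e => hv1 (by
      obtain ⟨n, rfl⟩ := ZMod.natCast_zmod_surjective c
      rw [Nat.cast_smul_eq_nsmul, ← S.f_pow hu] at e
      exact hinj _ (pow_mem hu n) _ hv e ▸ pow_mem (mem_zpowers u) n)
  have h3 : S.ρ a = (χ₁ a : ZMod p) • 1 := b.ext fun i => by
    fin_cases i
    · simpa [hb0] using h1 a
    · simpa [hb1, ha] using h2 a
  have h4 : ∀ x ∈ P, a * x * (a : G)⁻¹ = x ^ (χ₁ a : ZMod p).val := fun x hx =>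
    hinj _ (CfsgH2.conj_mem_of_le_normalizer hn a.2 hx) _ (pow_mem hx _) (by
      rw [S.conj a x hx, h3, S.f_pow hx, ← Nat.cast_smul_eq_nsmul (ZMod p), ZMod.natCast_zmod_val]
      rfl)
  have h5 : χ₁ a ^ q = 1 := by
    rw [← map_pow, show a ^ q = 1 from Subtype.ext (hQ.1.2 a a.2), map_one]
  have h6 : χ₁ a ≠ 1 := fun e => ha1 (Subtype.ext (mem_bot.1 (hf ▸ mem_inf.2 ⟨a.2, by
    rw [← cMod_bot, ← S.ρ_eq_one_iff, h3, e, Units.val_one, one_smul]⟩)))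
  refine ⟨?_, a, a.2, fun e => ha1 (Subtype.ext e), _, h4, ?_, fun e => h6 (Units.ext ?_)⟩
  · rw [← orderOf_eq_prime h5 h6, ← ZMod.card_units p]
    exact orderOf_dvd_card
  · rw [← ZMod.natCast_eq_natCast_iff, Nat.cast_pow, ZMod.natCast_zmod_val, ← Units.val_pow_eq_pow_val,
      h5, Units.val_one, Nat.cast_one]
  · rwa [← ZMod.natCast_eq_natCast_iff, ZMod.natCast_zmod_val, Nat.cast_one] at e

end CfsgFT
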